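import Groth.Agent.CompactPull.HigherStalk
import Groth.Agent.SSExist.CohPre
import Mathlib.Algebra.Category.Grp.AB

/-!
Cohomology of a compact relatively Hausdorff subspace as a colimit.
-/

set_option autoImplicit false
set_option linter.style.haveILetI false
set_option backward.isDefEq.respectTransparency false
set_option backward.isDefEq.respectTransparency.types false

universe u

open CategoryTheory CategoryTheory.Limits Opposite TopologicalSpace Topology Filter Set

namespace Groth.Agent.CompactPull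

variable {X : TopCat.{u}} (Z : Set X)

/-- The neighbourhoods of a subset. -/
abbrev Nb : ObjectProperty (Opens X)ᵒᵖ := fun U => Z ⊆ (U.unop : Set X)

instance isFiltered_nb : IsFiltered (Nb Z).FullSubcategory where
  cocone_objs A B := ⟨⟨op (A.obj.unop ⊓ B.obj.unop), fun x hx => ⟨A.property hx, B.property hx⟩⟩,
    ObjectProperty.homMk (homOfLE inf_le_left).op, ObjectProperty.homMk (homOfLE inf_le_right).op, trivial⟩
  cocone_maps A B f g := ⟨B, 𝟙 B, ObjectProperty.hom_ext _ (Subsingleton.elim _ _)⟩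
  nonempty := ⟨⟨op ⊤, fun _ _ => trivial⟩⟩

/-- Sections near a subset, as the colimit of sections. -/
noncomputable abbrev colRes : ((Opens X)ᵒᵖ ⥤ AddCommGrpCat.{u}) ⥤ AddCommGrpCat.{u} :=
  (Functor.whiskeringLeft _ _ _).obj (Nb Z).ι ⋙ colim

theorem nonempty_addEquiv_colimit (hZ : IsCompact Z)
    (hsep : ∀ x ∈ Z, ∀ y ∈ Z, x ≠ y → ∃ U V : Opens X, x ∈ U ∧ y ∈ V ∧ Disjoint U V)
    (F : CohTop.Ab X) (p : ℕ) :
    Nonempty ((colimit (ObjectProperty.ι (fun U : (Opens X)ᵒᵖ => Z ⊆ (U.unop : Set X)) ⋙
        (Sheaf.cohomologyPresheafFunctor (Opens.grothendieckTopology X) p).obj F) : AddCommGrpCat.{u}) ≃+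
      CohTop.H ((CohTop.pull (TopCat.ofHom ⟨Subtype.val, continuous_subtype_val⟩ : TopCat.of Z ⟶ X)).obj F) p) := by
  let j : TopCat.of Z ⟶ X := TopCat.ofHom ⟨Subtype.val, continuous_subtype_val⟩
  let Γ : CohTop.Ab (TopCat.of Z) ⥤ AddCommGrpCat.{u} :=
    (sheafSections (Opens.grothendieckTopology (TopCat.of Z)) AddCommGrpCat.{u}).obj (op ⊤)
  have hj : IsInducing j := IsInducing.subtypeVal
  haveI : CompactSpace (TopCat.of Z) := isCompact_iff_compactSpace.1 hZ
  have hs : PtTop.RelT2 (Set.range j) := by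
    rintro _ ⟨a, rfl⟩ _ ⟨b, rfl⟩ hne
    obtain ⟨U, V, hxU, hyV, hUV⟩ := hsep a.1 a.2 b.1 b.2 hne
    refine Filter.disjoint_iff.2 ⟨U, U.2.mem_nhds hxU, V, V.2.mem_nhds hyV, Set.disjoint_left.2 fun z hzU hzV => ?_⟩
    exact (hUV (show U ⊓ V ≤ U from inf_le_left) (show U ⊓ V ≤ V from inf_le_right) ⟨hzU, hzV⟩ : z ∈ (⊥ : Opens X))
  haveI : T2Space (TopCat.of Z) := t2Space_iff_disjoint_nhds.2 fun a b h => by
    show Disjoint (nhds a) (nhds b)
    rw [nhds_subtype, nhds_subtype]
    exact Filter.disjoint_comap (hs _ ⟨a, rfl⟩ _ ⟨b, rfl⟩ fun e => h (Subtype.ext e))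
  haveI : Γ.Additive := { map_add := rfl }
  haveI : PreservesFiniteLimits Γ := preservesFiniteLimits_of_natIso (FibDescLib.gammaIso (TopCat.of Z)).symm
  haveI : (TopCat.Sheaf.pushforward AddCommGrpCat.{u} j).Additive := { map_add := rfl }
  haveI : (CohTop.pull j).Additive :=
    (TopCat.Sheaf.pullbackPushforwardAdjunction AddCommGrpCat.{u} j).left_adjoint_additive
  haveI := SSExist.preservesFiniteLimits_pullTop j
  haveI : PreservesFiniteColimits (CohTop.pull j) :=
    haveI : PreservesColimitsOfSize.{0, 0} (CohTop.pull j) :=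
      (TopCat.Sheaf.pullbackPushforwardAdjunction AddCommGrpCat.{u} j).leftAdjoint_preservesColimits
    PreservesColimitsOfSize.preservesFiniteColimits _
  haveI : PreservesFiniteLimits (colim (J := (Nb Z).FullSubcategory) (C := AddCommGrpCat.{u})) :=
    HasExactColimitsOfShape.preservesFiniteLimits
  haveI : PreservesFiniteLimits (colRes Z) := comp_preservesFiniteLimits _ _
  haveI : PreservesFiniteColimits (colRes Z) := comp_preservesFiniteColimits _ _
  haveI : (colRes Z).Additive := inferInstance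
  haveI : (colRes Z).PreservesHomology := Functor.preservesHomologyOfExact _
  have hle : ∀ A : (Nb Z).FullSubcategory, (⊤ : Opens (TopCat.of Z)) ≤ (Opens.map j).obj A.obj.unop :=
    fun A z _ => A.property z.2
  let P : CohTop.Ab X ⥤ ((Opens X)ᵒᵖ ⥤ AddCommGrpCat.{u}) := sheafToPresheaf _ _
  let c : P ⋙ colRes Z ⟶ CohTop.pull j ⋙ Γ :=
    { app := fun G => colimit.desc ((Nb Z).ι ⋙ G.obj)
        { pt := ((CohTop.pull j).obj G).obj.obj (op ⊤)
          ι :=
            { app := fun A =>
                ((TopCat.Sheaf.pullbackPushforwardAdjunction AddCommGrpCat.{u} j).unit.app G).hom.app A.obj ≫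
                  ((CohTop.pull j).obj G).obj.map (homOfLE (hle A)).op
              naturality := fun A B h => by
                refine (Category.assoc _ _ _).symm.trans (Eq.trans ?_ (Category.comp_id _).symm)
                refine (congrArg (fun t => t ≫ _) (((TopCat.Sheaf.pullbackPushforwardAdjunction AddCommGrpCat.{u} j).unit.app G).hom.naturality h.hom)).trans ?_
                refine (Category.assoc _ _ _).trans ?_
                refine congrArg (CategoryStruct.comp _) ?_
                exact (((CohTop.pull j).obj G).obj.map_comp _ _).symm.trans (congrArg _ (Subsingleton.elim _ _)) } }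
      naturality := fun G G' φ => colimit.hom_ext fun A => by
        refine (Category.assoc _ _ _).symm.trans ?_
        refine (congrArg (fun t => t ≫ _) (ι_colimMap _ A)).trans ?_
        refine (Category.assoc _ _ _).trans ?_
        refine (congrArg (CategoryStruct.comp _) (colimit.ι_desc _ A)).trans ?_
        refine Eq.trans ?_ (Category.assoc _ _ _)
        refine Eq.trans ?_ (congrArg (fun t => t ≫ _) (colimit.ι_desc _ A)).symm
        refine Eq.trans ?_ (Category.assoc _ _ _).symm
        refine Eq.trans ?_ (congrArg (CategoryStruct.comp _) (((CohTop.pull j).map φ).hom.naturality _).symm)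
        refine (Category.assoc _ _ _).symm.trans (Eq.trans ?_ (Category.assoc _ _ _))
        refine congrArg (fun t => t ≫ _) ?_
        exact congr_app (congrArg (fun ψ => ψ.hom)
          ((TopCat.Sheaf.pullbackPushforwardAdjunction AddCommGrpCat.{u} j).unit.naturality φ)) A.obj }
  have hc : ∀ G, IsIso (c.app G) := by
    intro G
    have hι : ∀ (A : (Nb Z).FullSubcategory) (s : G.obj.obj A.obj),
        c.app G (colimit.ι ((Nb Z).ι ⋙ G.obj) A s) =
          ((CohTop.pull j).obj G).obj.map (homOfLE (hle A)).op (pulled j G (U := A.obj.unop) s) := fun A s =>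
      by
        show (colimit.ι ((Nb Z).ι ⋙ G.obj) A ≫ colimit.desc ((Nb Z).ι ⋙ G.obj) _) s = _
        rw [colimit.ι_desc]
        rfl
    refine (ConcreteCategory.isIso_iff_bijective _).2 ⟨?_, fun t => ?_⟩
    · rw [injective_iff_map_eq_zero]
      intro a ha
      obtain ⟨A, s, rfl⟩ := Concrete.colimit_exists_rep ((Nb Z).ι ⋙ G.obj) a
      rw [hι] at ha
      let V : Opens X := ⟨eqLocus G (U := A.obj.unop) (V := A.obj.unop) s 0, isOpen_eqLocus G _ _⟩
      have hV : Z ⊆ V := fun x hx => by
        refine ⟨A.property hx, A.property hx, ?_⟩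
        refine Eq.trans ?_ (map_zero _).symm
        refine germ_eq_zero_of_pulled j G hj s ⟨x, hx⟩ (A.property hx) ?_
        have h1 := (gm_res ((CohTop.pull j).obj G) (hle A) (pulled j G (U := A.obj.unop) s) ⟨x, hx⟩ trivial).symm
        exact h1.trans ((congrArg _ ha).trans (map_zero _))
      let B : (Nb Z).FullSubcategory := ⟨op V, hV⟩
      have hVA : V ≤ A.obj.unop := fun x ⟨hx, _, _⟩ => hx
      let h : A ⟶ B := ObjectProperty.homMk (homOfLE hVA).op
      have e0 : G.obj.map (homOfLE hVA).op s = 0 := eq_of_gm G _ _ fun x hx => by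
        refine (gm_res G hVA s x hx).trans ?_
        obtain ⟨_, _, e⟩ := hx
        exact e.trans ((map_zero _).trans (map_zero _).symm)
      refine (ConcreteCategory.congr_hom (colimit.w ((Nb Z).ι ⋙ G.obj) h) s).symm.trans ?_
      exact (congrArg (colimit.ι ((Nb Z).ι ⋙ G.obj) B) e0).trans (map_zero _)
    · obtain ⟨U, s, hU, hsU⟩ := exists_extend j hj G (C := univ) isCompact_univ (by rwa [image_univ])
        (W := ⊤) (fun _ _ => trivial) t
      let A : (Nb Z).FullSubcategory := ⟨op U, fun x hx => hU ⟨⟨x, hx⟩, mem_univ _, rfl⟩⟩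
      refine ⟨colimit.ι ((Nb Z).ι ⋙ G.obj) A s, (hι A s).trans (eq_of_gm _ _ _ fun z hz => ?_)⟩
      exact (gm_res ((CohTop.pull j).obj G) (hle A) _ z hz).trans (hsU z (mem_univ z) (hle A hz) hz)
  haveI : IsIso c := NatIso.isIso_of_isIso_app _
  obtain ⟨e₀⟩ := SSExist.nonempty_rightDerived_sheafToPresheaf_iso _ F p
  let e₁ := (DescSec.nonempty_rightDerived_comp_exact P (colRes Z) F p).some
  let e₂ := (DescSec.nonempty_rightDerived_of_iso (T := P ⋙ colRes Z) (T' := CohTop.pull j ⋙ Γ) (asIso c) F p).some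
  let e₃ := (SSExist.nonempty_rightDerived_comp_iso (CohTop.pull j) Γ (fun Q hQ q hq => by
    haveI := hQ
    obtain ⟨k, rfl⟩ := Nat.exists_eq_succ_of_ne_zero hq.ne'
    exact isZero_rightDerived_sections j hj hs Q k) F p).some
  let e₄ := (SSExist.nonempty_ext_iso_rightDerived Γ (FibDescLib.zS (TopCat.of Z))
    (FibDescLib.gammaIso (TopCat.of Z)) ((CohTop.pull j).obj F) p).some
  exact ⟨((colRes Z).mapIso e₀.symm ≪≫ e₁.symm ≪≫ e₂ ≪≫ e₃ ≪≫ e₄.symm).addCommGroupIsoToAddEquiv⟩

end Groth.Agent.CompactPull
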