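import Groth.Agent.CompactPull.Germ
import Groth.Agent.PtTop.Shrink

/-!
Sections of inverse images on compact relatively Hausdorff subsets come from neighbourhoods.
-/

set_option autoImplicit false
set_option linter.style.haveILetI false
set_option backward.isDefEq.respectTransparency false
set_option backward.isDefEq.respectTransparency.types false

universe u

open CategoryTheory CategoryTheory.Limits Opposite TopologicalSpace Topology Filter Set

namespace Groth.Agent.CompactPull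

section Sheaf

variable {X : TopCat.{u}} (F : CohTop.Ab X)

theorem gm_res {U V : Opens X} (h : V ≤ U) (s : F.obj.obj (op U)) (x : X) (hx : x ∈ V) :
    gm F V x hx (F.obj.map (homOfLE h).op s) = gm F U x (h hx) s :=
  TopCat.Presheaf.germ_res_apply F.obj (homOfLE h) x hx s

theorem eq_of_gm {U : Opens X} (s t : F.obj.obj (op U)) (h : ∀ x (hx : x ∈ U), gm F U x hx s = gm F U x hx t) :
    s = t :=
  TopCat.Presheaf.section_ext (F := F) U s t h

theorem exists_nhd_gm_eq {U V : Opens X} (s : F.obj.obj (op U)) (t : F.obj.obj (op V)) (x : X) (hx : x ∈ U)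
    (hx' : x ∈ V) (h : gm F U x hx s = gm F V x hx' t) :
    ∃ W : Opens X, x ∈ W ∧ W ≤ U ⊓ V ∧ ∀ y (hy : y ∈ U) (hy' : y ∈ V), y ∈ W → gm F U y hy s = gm F V y hy' t := by
  obtain ⟨W, hxW, i, j, e⟩ := TopCat.Presheaf.germ_eq F.obj x hx hx' s t h
  exact ⟨W, hxW, le_inf i.le j.le, fun y hy hy' hyW => (TopCat.Presheaf.germ_res_apply F.obj i y hyW s).symm.trans
    ((congrArg _ e).trans (TopCat.Presheaf.germ_res_apply F.obj j y hyW t))⟩

/-- Gluing, tested on germs. -/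
theorem exists_glue {ι : Type u} (U : ι → Opens X) (s : ∀ i, F.obj.obj (op (U i)))
    (h : ∀ i j x (hi : x ∈ U i) (hj : x ∈ U j), gm F (U i) x hi (s i) = gm F (U j) x hj (s j)) :
    ∃ b : F.obj.obj (op (iSup U)), ∀ i x (hi : x ∈ U i),
      gm F (iSup U) x (le_iSup U i hi) b = gm F (U i) x hi (s i) := by
  obtain ⟨b, hb, -⟩ := TopCat.Sheaf.existsUnique_gluing F U s fun i j => eq_of_gm F _ _ fun x hx =>
    (gm_res F inf_le_left (s i) x hx).trans ((h i j x hx.1 hx.2).trans (gm_res F inf_le_right (s j) x hx).symm)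
  exact ⟨b, fun i x hi => (gm_res F (le_iSup U i) b x hi).symm.trans (congrArg _ (hb i))⟩

/-- The open locus of equal germs. -/
def eqLocus {U V : Opens X} (s : F.obj.obj (op U)) (t : F.obj.obj (op V)) : Set X :=
  {x | ∃ (hx : x ∈ U) (hx' : x ∈ V), gm F U x hx s = gm F V x hx' t}

theorem isOpen_eqLocus {U V : Opens X} (s : F.obj.obj (op U)) (t : F.obj.obj (op V)) :
    IsOpen (eqLocus F s t) := by
  refine isOpen_iff_forall_mem_open.2 fun x ⟨hx, hx', h⟩ => ?_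
  obtain ⟨W, hxW, hW, hWe⟩ := exists_nhd_gm_eq F s t x hx hx' h
  exact ⟨W, fun y hy => ⟨(hW hy).1, (hW hy).2, hWe y _ _ hy⟩, W.2, hxW⟩

/-- Compatible local sections along a compact relatively Hausdorff set glue on a neighbourhood. -/
theorem exists_glue_compact {K : Set X} (hK : IsCompact K) (hs : PtTop.RelT2 K) {ι : Type u}
    (U : ι → Opens X) (s : ∀ i, F.obj.obj (op (U i))) (hcov : K ⊆ ⋃ i, (U i : Set X))
    (h : ∀ i j x, x ∈ K → ∀ (hi : x ∈ U i) (hj : x ∈ U j), gm F (U i) x hi (s i) = gm F (U j) x hj (s j)) :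
    ∃ (O : Opens X) (b : F.obj.obj (op O)), K ⊆ O ∧ ∀ x, x ∈ K → ∀ (hx : x ∈ O) i (hi : x ∈ U i),
      gm F O x hx b = gm F (U i) x hi (s i) := by
  obtain ⟨T, N, idx, -, hNo, hNcov, hN⟩ := hs.exists_shrink hK (fun i => (U i : Set X)) (fun i => (U i).2) hcov
    (fun _ => univ) (fun _ _ => univ_mem)
  have step : ∀ a b : T, ∃ A B : Set X, A ∈ 𝓝ˢ (K ∩ closure (N a)) ∧ B ∈ 𝓝ˢ (K ∩ closure (N b)) ∧
      A ∩ B ⊆ eqLocus F (s (idx a)) (s (idx b)) := by
    intro a b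
    have hm : eqLocus F (s (idx a)) (s (idx b)) ∈ 𝓝ˢ (K ∩ (closure (N a) ∩ closure (N b))) :=
      (isOpen_eqLocus F _ _).mem_nhdsSet.2 fun x hx =>
        ⟨(hN a).2.1 ⟨hx.2.1, hx.1⟩, (hN b).2.1 ⟨hx.2.2, hx.1⟩, h _ _ x hx.1 _ _⟩
    obtain ⟨A, hA, B, hB, hAB⟩ := mem_inf_iff_superset.1
      (hs.inf_nhdsSet_le hK isClosed_closure isClosed_closure hm)
    exact ⟨A, B, hA, hB, hAB⟩
  choose A B hA hB hAB using step
  let M : T → Opens X := fun a =>
    ⟨(U (idx a) : Set X) ∩ ⋂ b : T, (interior (A a b) ∩ interior (B b a)),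
      (U (idx a)).2.inter (isOpen_iInter_of_finite fun _ => isOpen_interior.inter isOpen_interior)⟩
  have hKM : ∀ a : T, K ∩ closure (N a) ⊆ M a := fun a x hx =>
    ⟨(hN a).2.1 ⟨hx.2, hx.1⟩, mem_iInter.2 fun b =>
      ⟨subset_interior_iff_mem_nhdsSet.2 (hA a b) hx, subset_interior_iff_mem_nhdsSet.2 (hB b a) hx⟩⟩
  obtain ⟨b, hb⟩ := exists_glue F M (fun a => F.obj.map (homOfLE (fun x hx => hx.1 : M a ≤ U (idx a))).op (s (idx a)))
    fun a c x hxa hxc => by
      obtain ⟨_, _, e⟩ := hAB a c ⟨interior_subset (mem_iInter.1 hxa.2 c).1, interior_subset (mem_iInter.1 hxc.2 a).2⟩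
      exact (gm_res F (fun y hy => hy.1 : M a ≤ U (idx a)) (s (idx a)) x hxa).trans
        (e.trans (gm_res F (fun y hy => hy.1 : M c ≤ U (idx c)) (s (idx c)) x hxc).symm)
  refine ⟨iSup M, b, fun x hx => ?_, fun x hxK hxO i hi => ?_⟩
  · obtain ⟨a, ha⟩ := mem_iUnion.1 (hNcov hx)
    exact le_iSup M a (hKM a ⟨hx, subset_closure ha⟩)
  · obtain ⟨a, ha⟩ := Opens.mem_iSup.1 hxO
    exact (hb a x ha).trans ((gm_res F _ _ x ha).trans (h _ _ x hxK ha.1 hi))

end Sheaf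

variable {X Z : TopCat.{u}} (f : Z ⟶ X) (hf : IsInducing f) (F : CohTop.Ab X)

include hf in
/-- Sections of the inverse image over a compact relatively Hausdorff set extend to a neighbourhood. -/
theorem exists_extend {C : Set Z} (hC : IsCompact C) (hs : PtTop.RelT2 (f '' C)) {W : Opens Z} (hCW : C ⊆ W)
    (t : ((CohTop.pull f).obj F).obj.obj (op W)) :
    ∃ (U : Opens X) (s : F.obj.obj (op U)), f '' C ⊆ U ∧ ∀ c, c ∈ C → ∀ (hc : f c ∈ U) (hc' : c ∈ W),
      gm ((CohTop.pull f).obj F) ((Opens.map f).obj U) c hc (pulled f F s) =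
        gm ((CohTop.pull f).obj F) W c hc' t := by
  have key : ∀ c : C, ∃ (U : Opens X) (s : F.obj.obj (op U)), f c.1 ∈ U ∧
      ∀ d, d ∈ C → ∀ (hd : f d ∈ U) (hd' : d ∈ W),
        gm ((CohTop.pull f).obj F) ((Opens.map f).obj U) d hd (pulled f F s) =
          gm ((CohTop.pull f).obj F) W d hd' t := by
    intro c
    obtain ⟨U, hcU, s, W', hcW', hW'⟩ := exists_pulled_germ f F hf t c.1 (hCW c.2)
    obtain ⟨O, hO, hOeq⟩ := hf.isOpen_iff.1 W'.2
    refine ⟨U ⊓ ⟨O, hO⟩, F.obj.map (homOfLE inf_le_left).op s, ⟨hcU, ?_⟩, fun d _ hd hd' => ?_⟩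
    · exact (Set.ext_iff.1 hOeq c.1).2 hcW'
    · rw [pulled_res f F inf_le_left s]
      exact (gm_res ((CohTop.pull f).obj F) (leOfHom ((Opens.map f).map (homOfLE inf_le_left))) _ d hd).trans
        (hW' d hd' hd.1 ((Set.ext_iff.1 hOeq d).1 hd.2))
  choose U s hcU hU using key
  obtain ⟨O, b, hO, hb⟩ := exists_glue_compact F (hC.image f.hom.continuous) hs U s
    (by rintro _ ⟨c, hc, rfl⟩; exact mem_iUnion.2 ⟨⟨c, hc⟩, hcU _⟩)
    (by
      rintro i j _ ⟨c, hc, rfl⟩ hi hj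
      exact germ_eq_of_pulled f F hf _ _ c hi hj ((hU i c hc hi (hCW hc)).trans (hU j c hc hj (hCW hc)).symm))
  refine ⟨O, b, hO, fun c hc hcO hc' => ?_⟩
  refine Eq.trans ?_ (hU ⟨c, hc⟩ c hc (hcU _) hc')
  exact (stalkCmp_germ f F b c hcO).symm.trans
    ((congrArg _ (hb (f c) ⟨c, hc, rfl⟩ hcO _ (hcU ⟨c, hc⟩))).trans (stalkCmp_germ f F _ c _))

end Groth.Agent.CompactPull
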