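import Groth.Agent.CompactPull.Soft

/-!
Restrictions of flasque sheaves to compact relatively Hausdorff subspaces.
-/

set_option autoImplicit false
set_option linter.style.haveILetI false
set_option backward.isDefEq.respectTransparency false
set_option backward.isDefEq.respectTransparency.types false

universe u

open CategoryTheory CategoryTheory.Limits Opposite TopologicalSpace Topology Filter Set

namespace Groth.Agent.CompactPull

theorem surjective_sections_closed {X : TopCat.{u}} {K : Set X} (hK : IsCompact K)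
    (hsep : ∀ x ∈ K, ∀ y ∈ K, x ≠ y → ∃ U V : Set X, IsOpen U ∧ IsOpen V ∧ x ∈ U ∧ y ∈ V ∧ Disjoint U V)
    (F : CohTop.Ab X) [TopCat.Sheaf.IsFlasque F] {A : Set K} (hA : IsClosed A) :
    Function.Surjective
      ((((TopCat.Sheaf.pullbackPushforwardAdjunction AddCommGrpCat.{u}
        (TopCat.ofHom ⟨((↑) : A → K), continuous_subtype_val⟩ : TopCat.of A ⟶ TopCat.of K)).unit.app
        ((CohTop.pull (TopCat.ofHom ⟨((↑) : K → X), continuous_subtype_val⟩ : TopCat.of K ⟶ X)).obj F)).hom.app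
        (op ⊤)).hom) := by
  let i : TopCat.of A ⟶ TopCat.of K := TopCat.ofHom ⟨((↑) : A → K), continuous_subtype_val⟩
  let j : TopCat.of K ⟶ X := TopCat.ofHom ⟨((↑) : K → X), continuous_subtype_val⟩
  let G := (CohTop.pull j).obj F
  haveI : CompactSpace (TopCat.of K) := isCompact_iff_compactSpace.1 hK
  haveI : T2Space (TopCat.of K) := ⟨fun x y h => by
    obtain ⟨U, V, hU, hV, hxU, hyV, hUV⟩ := hsep x.1 x.2 y.1 y.2 (fun e => h (Subtype.ext e))
    exact ⟨Subtype.val ⁻¹' U, Subtype.val ⁻¹' V, hU.preimage continuous_subtype_val,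
      hV.preimage continuous_subtype_val, hxU, hyV, hUV.preimage _⟩⟩
  haveI : CompactSpace (TopCat.of A) := isCompact_iff_compactSpace.1 hA.isCompact
  have hj : IsInducing j := IsInducing.subtypeVal
  have hi : IsInducing i := IsInducing.subtypeVal
  have hsK : PtTop.RelT2 (Set.range j) := by
    rintro _ ⟨x, rfl⟩ _ ⟨y, rfl⟩ hne
    obtain ⟨U, V, hU, hV, hxU, hyV, hUV⟩ := hsep x.1 x.2 y.1 y.2 hne
    exact Filter.disjoint_iff.2 ⟨U, hU.mem_nhds hxU, V, hV.mem_nhds hyV, hUV⟩
  intro t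
  change ∃ a, pulled i G (U := ⊤) a = t
  obtain ⟨U, s, hU, hs⟩ := exists_extend i hi G (C := univ) isCompact_univ
    (fun z _ z' _ h => disjoint_nhds_nhds.2 h) (W := (Opens.map i).obj ⊤) (fun _ _ => trivial) t
  have hAU : (A : Set (TopCat.of K)) ⊆ U := fun x hx => hU ⟨⟨x, hx⟩, mem_univ _, rfl⟩
  obtain ⟨τ, hτ⟩ := isSoft_pull j hj hsK F A hA U s hAU
  refine ⟨τ, eq_of_gm _ _ _ fun z hz => ?_⟩
  refine Eq.trans ?_ (hs z (mem_univ z) (hAU z.2) hz)
  exact (stalkCmp_germ i G τ z trivial).symm.trans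
    ((congrArg _ (hτ (i z) z.2 (hAU z.2))).trans (stalkCmp_germ i G s z _))

end Groth.Agent.CompactPull
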