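import Groth.Agent.ClosedPush.Basic

/-!
Germs of inverse images along inducing maps.
-/

set_option autoImplicit false
set_option linter.style.haveILetI false
set_option backward.isDefEq.respectTransparency false
set_option backward.isDefEq.respectTransparency.types false

universe u

open CategoryTheory CategoryTheory.Limits Opposite TopologicalSpace Topology

namespace Groth.Agent.CompactPull

/-- The germ of a section of a sheaf. -/
noncomputable abbrev gm {X : TopCat.{u}} (F : CohTop.Ab X) (U : Opens X) (x : X) (hx : x ∈ U)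
    (s : F.obj.obj (op U)) : TopCat.Presheaf.stalk (C := AddCommGrpCat.{u}) F.obj x :=
  TopCat.Presheaf.germ (C := AddCommGrpCat.{u}) F.obj U x hx s

variable {X Z : TopCat.{u}} (f : Z ⟶ X) (F : CohTop.Ab X)

/-- The pulled back section. -/
noncomputable def pulled {U : Opens X} (s : F.obj.obj (op U)) :
    ((CohTop.pull f).obj F).obj.obj (op ((Opens.map f).obj U)) :=
  ((TopCat.Sheaf.pullbackPushforwardAdjunction AddCommGrpCat.{u} f).unit.app F).hom.app (op U) s

theorem pulled_res {U V : Opens X} (h : V ≤ U) (s : F.obj.obj (op U)) :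
    pulled f F (F.obj.map (homOfLE h).op s) =
      ((CohTop.pull f).obj F).obj.map ((Opens.map f).map (homOfLE h)).op (pulled f F s) :=
  ConcreteCategory.congr_hom
    (((TopCat.Sheaf.pullbackPushforwardAdjunction AddCommGrpCat.{u} f).unit.app F).hom.naturality (homOfLE h).op) s

/-- The comparison on stalks. -/
noncomputable def stalkCmp (z : Z) : TopCat.Presheaf.stalk (C := AddCommGrpCat.{u}) F.obj (f z) ⟶ TopCat.Presheaf.stalk (C := AddCommGrpCat.{u}) ((CohTop.pull f).obj F).obj z :=
  (TopCat.Presheaf.stalkFunctor AddCommGrpCat.{u} (f z)).map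
      ((TopCat.Sheaf.pullbackPushforwardAdjunction AddCommGrpCat.{u} f).unit.app F).hom ≫
    TopCat.Presheaf.stalkPushforward AddCommGrpCat.{u} f ((CohTop.pull f).obj F).obj z

theorem stalkCmp_germ {U : Opens X} (s : F.obj.obj (op U)) (z : Z) (hz : f z ∈ U) :
    stalkCmp f F z (gm F U (f z) hz s) =
      gm ((CohTop.pull f).obj F) ((Opens.map f).obj U) z hz (pulled f F s) := by
  unfold stalkCmp
  rw [ConcreteCategory.comp_apply]
  erw [TopCat.Presheaf.stalkFunctor_map_germ_apply]
  exact ConcreteCategory.congr_hom (TopCat.Presheaf.stalkPushforward_germ AddCommGrpCat.{u} f _ U z hz) _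

theorem bijective_stalkCmp (hf : IsInducing f) (z : Z) : Function.Bijective (stalkCmp f F z) := by
  let adj := TopCat.Sheaf.pullbackPushforwardAdjunction AddCommGrpCat.{u} f
  haveI := ClosedPush.isIso_counit (f := f) hf
  haveI : IsIso ((CohTop.pull f).map (adj.unit.app F)) := by
    haveI : IsIso ((CohTop.pull f).map (adj.unit.app F) ≫ adj.counit.app _) := by
      erw [adj.left_triangle_components]; infer_instance
    exact IsIso.of_isIso_comp_right _ (adj.counit.app ((CohTop.pull f).obj F))
  haveI : IsIso ((ClosedPush.stk (f z)).map (adj.unit.app F)) :=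
    (NatIso.isIso_map_iff (ClosedPush.pullStkIso f z) (adj.unit.app F)).1
      (inferInstanceAs (IsIso ((ClosedPush.stk z).map ((CohTop.pull f).map (adj.unit.app F)))))
  haveI : IsIso ((TopCat.Presheaf.stalkFunctor AddCommGrpCat.{u} (f z)).map (adj.unit.app F).hom) :=
    ‹IsIso ((ClosedPush.stk (f z)).map (adj.unit.app F))›
  haveI := TopCat.Presheaf.stalkPushforward.stalkPushforward_iso_of_isInducing AddCommGrpCat.{u} hf
    ((CohTop.pull f).obj F).obj z
  unfold stalkCmp
  exact ConcreteCategory.bijective_of_isIso _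

theorem germ_eq_zero_of_pulled (hf : IsInducing f) {U : Opens X} (s : F.obj.obj (op U)) (z : Z) (hz : f z ∈ U)
    (h : gm ((CohTop.pull f).obj F) ((Opens.map f).obj U) z hz (pulled f F s) = 0) :
    gm F U (f z) hz s = 0 :=
  (bijective_stalkCmp f F hf z).1 ((stalkCmp_germ f F s z hz).trans (h.trans (map_zero _).symm))

theorem germ_eq_of_pulled (hf : IsInducing f) {U V : Opens X} (s : F.obj.obj (op U)) (t : F.obj.obj (op V))
    (z : Z) (hz : f z ∈ U) (hz' : f z ∈ V)
    (h : gm ((CohTop.pull f).obj F) ((Opens.map f).obj U) z hz (pulled f F s) =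
      gm ((CohTop.pull f).obj F) ((Opens.map f).obj V) z hz' (pulled f F t)) :
    gm F U (f z) hz s = gm F V (f z) hz' t :=
  (bijective_stalkCmp f F hf z).1 ((stalkCmp_germ f F s z hz).trans (h.trans (stalkCmp_germ f F t z hz').symm))

theorem exists_pulled_germ (hf : IsInducing f) {W : Opens Z}
    (t : ((CohTop.pull f).obj F).obj.obj (op W)) (z : Z) (hz : z ∈ W) :
    ∃ (U : Opens X) (hzU : f z ∈ U) (s : F.obj.obj (op U)) (W' : Opens Z),
      z ∈ W' ∧ ∀ (y : Z) (hy : y ∈ W) (hy' : f y ∈ U), y ∈ W' →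
        gm ((CohTop.pull f).obj F) ((Opens.map f).obj U) y hy' (pulled f F s) =
          gm ((CohTop.pull f).obj F) W y hy t := by
  obtain ⟨a, ha⟩ := (bijective_stalkCmp f F hf z).2 (gm ((CohTop.pull f).obj F) W z hz t)
  obtain ⟨U, hzU, s, rfl⟩ := TopCat.Presheaf.germ_exist (F := F.obj) a
  rw [stalkCmp_germ] at ha
  obtain ⟨W', hzW', i, j, e⟩ := TopCat.Presheaf.germ_eq ((CohTop.pull f).obj F).obj z hzU hz _ _ ha
  refine ⟨U, hzU, s, W', hzW', fun y hy hy' hyW => ?_⟩
  exact (TopCat.Presheaf.germ_res_apply _ i y hyW _).symm.trans ((congrArg _ e).trans (TopCat.Presheaf.germ_res_apply _ j y hyW _))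

end Groth.Agent.CompactPull
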